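import Mathlib

/-!
# Dimension bounds for faithful representations over the field with two elements

* a unipotent element of order `2 ^ (e + 1)` needs dimension more than `2 ^ e`;
* a 2-group normalizing a non-trivial group of odd order on which it acts semiregularly needs
  dimension at least its order;
* the order of a subgroup divides the order of the general linear group.
-/

set_option autoImplicit false
set_option linter.style.haveILetI false

namespace Cfsg.Agent.CoreConsumers.SEModule

variable {G : Type*} [Group G] {V : Type*} [AddCommGroup V] [Module (ZMod 2) V]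

theorem zmod_two : ∀ a : ZMod 2, a = 0 ∨ a = 1 := by decide

theorem end_add_self (f : Module.End (ZMod 2) V) : f + f = 0 := by
  have h : (1 + 1 : ZMod 2) = 0 := by decide
  conv_lhs => rw [← one_smul (ZMod 2) f, ← add_smul, h, zero_smul]

theorem end_sub_one_pow (g : Module.End (ZMod 2) V) :
    ∀ j : ℕ, (g - 1) ^ 2 ^ j = g ^ 2 ^ j - 1 := by
  intro j
  induction j with
  | zero => simp
  | succ j ih =>
    rw [pow_succ, pow_mul, pow_mul, ih, pow_two, pow_two]
    set a := g ^ 2 ^ j with ha
    have h := end_add_self (1 - a)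
    have h' : (a - 1) * (a - 1) = a * a - 1 + ((1 - a) + (1 - a)) := by noncomm_ring
    rw [h', h, add_zero]

variable [Module.Finite (ZMod 2) V]

/-- A nilpotent endomorphism is killed by the dimension. -/
theorem pow_finrank_of_isNilpotent {f : Module.End (ZMod 2) V} (h : IsNilpotent f) :
    f ^ Module.finrank (ZMod 2) V = 0 := by
  have h1 := LinearMap.aeval_self_charpoly f
  rwa [h.charpoly_eq_X_pow_finrank, map_pow, Polynomial.aeval_X] at h1

/-- An element of order `2 ^ (e + 1)` needs dimension more than `2 ^ e`. -/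
theorem lt_finrank_of_orderOf (ρ : Representation (ZMod 2) G V) (hρ : Function.Injective ρ)
    {g : G} {e : ℕ} (hg : orderOf g = 2 ^ (e + 1)) : 2 ^ e < Module.finrank (ZMod 2) V := by
  by_contra! hle
  have h1 : (ρ g - 1) ^ 2 ^ (e + 1) = 0 := by
    rw [end_sub_one_pow, ← map_pow, ← hg, pow_orderOf_eq_one, map_one, sub_self]
  have h2 : (ρ g - 1) ^ 2 ^ e = 0 :=
    pow_eq_zero_of_le hle (pow_finrank_of_isNilpotent ⟨_, h1⟩)
  rw [end_sub_one_pow, sub_eq_zero, ← map_pow, ← map_one ρ] at h2
  have h3 := orderOf_dvd_of_pow_eq_one (hρ h2)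
  rw [hg, Nat.pow_dvd_pow_iff_le_right one_lt_two] at h3
  omega

/-- The order of a subgroup divides the order of the general linear group. -/
theorem card_dvd_prod [Finite G] (ρ : Representation (ZMod 2) G V) (hρ : Function.Injective ρ)
    (P : Subgroup G) :
    Nat.card P ∣ ∏ i : Fin (Module.finrank (ZMod 2) V),
      (2 ^ Module.finrank (ZMod 2) V - 2 ^ (i : ℕ)) := by
  let b := Module.finBasis (ZMod 2) V
  let φ : G →* GL (Fin (Module.finrank (ZMod 2) V)) (ZMod 2) :=
    (Units.mapEquiv (LinearMap.toMatrixAlgEquiv b).toMulEquiv).toMonoidHom.comp ρ.toHomUnits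
  have hφ : Function.Injective φ := (Units.mapEquiv _).injective.comp fun x y hxy => hρ (by
    have h := congrArg Units.val hxy
    rwa [MonoidHom.coe_toHomUnits, MonoidHom.coe_toHomUnits] at h)
  refine (Subgroup.card_subgroup_dvd_card P).trans ?_
  refine (Subgroup.card_dvd_of_injective φ hφ).trans ?_
  rw [Matrix.card_GL_field, ZMod.card]

section Free

variable [Finite G] (ρ : Representation (ZMod 2) G V)

omit [Module.Finite (ZMod 2) V] [Finite G] in
theorem odd_nsmul_eq {n : ℕ} (hn : Odd n) (v : V) : n • v = v := by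
  obtain ⟨c, rfl⟩ := hn
  rw [← Nat.cast_smul_eq_nsmul (ZMod 2)]
  push_cast
  rw [show (2 : ZMod 2) = 0 from by decide, zero_mul, zero_add, one_smul]

open scoped Classical in
/-- A 2-group acting semiregularly on a non-trivial normalized group of odd order has a regular
orbit of independent vectors. -/
theorem card_le_finrank_of_free (hρ : Function.Injective ρ) {S R : Subgroup G}
    (hS : IsPGroup 2 S) (hR : Odd (Nat.card R)) (hR1 : R ≠ ⊥)
    (hn : ∀ s ∈ S, ∀ r ∈ R, s * r * s⁻¹ ∈ R)
    (hfree : ∀ s ∈ S, s ≠ 1 → ∀ r ∈ R, s * r = r * s → r = 1) :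
    Nat.card S ≤ Module.finrank (ZMod 2) V := by
  haveI : Fact (Nat.Prime 2) := ⟨Nat.prime_two⟩
  haveI := Fintype.ofFinite R
  haveI := Fintype.ofFinite S
  haveI : Finite V := Module.finite_of_finite (ZMod 2)
  set e : Module.End (ZMod 2) V := ∑ r : R, ρ r with he
  have her : ∀ r ∈ R, e * ρ r = e := fun r hr => by
    rw [he, Finset.sum_mul]
    exact Fintype.sum_equiv (Equiv.mulRight (⟨r, hr⟩ : R)) _ _ fun x => by simp
  have hee : e * e = e := by
    conv_lhs => arg 2; rw [he]
    rw [Finset.mul_sum, Finset.sum_congr rfl fun (r : R) _ => her r r.2, Finset.sum_const,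
      Finset.card_univ, ← Nat.card_eq_fintype_card]
    ext v
    exact odd_nsmul_eq hR (e v)
  have hse : ∀ s ∈ S, ρ s * e = e * ρ s := fun s hs => by
    rw [he, Finset.mul_sum, Finset.sum_mul]
    refine Fintype.sum_bijective (fun x : R => (⟨s * x * s⁻¹, hn s hs x x.2⟩ : R)) ?_ _ _ fun x => ?_
    · refine (Finite.injective_iff_bijective).1 fun x y hxy => Subtype.ext ?_
      exact mul_left_cancel (mul_right_cancel (congrArg Subtype.val hxy :))
    · rw [← map_mul, ← map_mul]
      simp
  -- a vector killed by `e`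
  obtain ⟨v, hv⟩ : ∃ v, e v ≠ v := by
    by_contra! hall
    apply hR1
    refine (Subgroup.eq_bot_iff_forall _).2 fun r hr => hρ ?_
    have he1 : e = 1 := LinearMap.ext hall
    have := her r hr
    rw [he1, one_mul] at this
    rw [this, map_one]
  set w₀ := v - e v with hw₀
  have hw₀0 : w₀ ≠ 0 := sub_ne_zero.2 (Ne.symm hv)
  have hew : e w₀ = 0 := by
    rw [hw₀, map_sub, ← LinearMap.comp_apply, ← Module.End.mul_eq_comp, hee, sub_self]
  -- the sum over the conjugates
  have hX : ∑ s : S, ∑ r : R, ρ ((r : G) * s * (r : G)⁻¹) w₀ = w₀ := by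
    rw [Finset.sum_eq_single (1 : S)]
    · simp only [OneMemClass.coe_one, mul_one, mul_inv_cancel, map_one, Module.End.one_apply,
        Finset.sum_const, Finset.card_univ, ← Nat.card_eq_fintype_card]
      exact odd_nsmul_eq hR w₀
    · intro s _ hs
      have hs1 : (s : G) ≠ 1 := fun h => hs (Subtype.ext h)
      let c : R → R := fun r => ⟨(r : G) * s * (r : G)⁻¹ * (s : G)⁻¹, by
        have := R.mul_mem r.2 (hn s s.2 _ (inv_mem r.2))
        rwa [← mul_assoc, ← mul_assoc] at this⟩
      have hc : Function.Bijective c := (Finite.injective_iff_bijective).1 fun x y hxy => by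
        have h1 : (x : G) * s * (x : G)⁻¹ = (y : G) * s * (y : G)⁻¹ :=
          mul_right_cancel (congrArg Subtype.val hxy :)
        refine Subtype.ext (inv_mul_eq_one.1 (hfree s s.2 hs1 ((y : G)⁻¹ * (x : G))
          (mul_mem (inv_mem y.2) x.2) ?_)).symm
        calc (s : G) * ((y : G)⁻¹ * x) = (y : G)⁻¹ * ((y : G) * s * (y : G)⁻¹) * x := by group
          _ = (y : G)⁻¹ * ((x : G) * s * (x : G)⁻¹) * x := by rw [h1]
          _ = (y : G)⁻¹ * x * s := by group
      calc ∑ r : R, ρ ((r : G) * s * (r : G)⁻¹) w₀
          = ∑ r : R, ρ ((c r : G)) (ρ (s : G) w₀) := Finset.sum_congr rfl fun r _ => by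
            rw [← Module.End.mul_apply, ← map_mul]
            exact congrArg (fun x => ρ x w₀) (inv_mul_cancel_right _ _).symm
        _ = ∑ r : R, ρ (r : G) (ρ (s : G) w₀) :=
            Fintype.sum_bijective c hc _ _ fun r => rfl
        _ = (e * ρ (s : G)) w₀ := by
            rw [Module.End.mul_apply, he, LinearMap.sum_apply]
        _ = 0 := by rw [← hse s s.2, Module.End.mul_apply, hew, map_zero]
    · exact fun h => absurd (Finset.mem_univ _) h
  -- a vector with non-zero orbit sum
  obtain ⟨w, hw⟩ : ∃ w, ∑ s : S, ρ (s : G) w ≠ 0 := by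
    by_contra! hall
    refine hw₀0 (hX.symm.trans ?_)
    rw [Finset.sum_comm]
    refine Finset.sum_eq_zero fun r _ => ?_
    simp_rw [map_mul, Module.End.mul_apply]
    rw [← map_sum, hall, map_zero]
  let φ : (S → ZMod 2) →ₗ[ZMod 2] V := Fintype.linearCombination (ZMod 2) fun s : S => ρ (s : G) w
  have hker : LinearMap.ker φ = ⊥ := by
    by_contra hne
    let act : MulAction S (LinearMap.ker φ) :=
      { smul := fun u f => ⟨fun s => (f : S → ZMod 2) (u⁻¹ * s), by
          have hf : φ f = 0 := f.2
          rw [LinearMap.mem_ker]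
          have : φ (fun s => (f : S → ZMod 2) (u⁻¹ * s)) = ρ (u : G) (φ f) := by
            simp only [φ, Fintype.linearCombination_apply, map_sum, map_smul,
              ← Module.End.mul_apply, ← map_mul]
            exact Fintype.sum_equiv (Equiv.mulLeft u⁻¹) _ _ fun s => by simp
          rw [this, hf, map_zero]⟩
        one_smul := fun f => Subtype.ext <| funext fun s => by
          show (f : S → ZMod 2) (1⁻¹ * s) = _
          rw [inv_one, one_mul]
        mul_smul := fun u u' f => Subtype.ext <| funext fun s => by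
          show (f : S → ZMod 2) ((u * u')⁻¹ * s) = (f : S → ZMod 2) (u'⁻¹ * (u⁻¹ * s))
          rw [mul_inv_rev, mul_assoc] }
    letI := act
    have h0 : (0 : LinearMap.ker φ) ∈ MulAction.fixedPoints S (LinearMap.ker φ) :=
      fun u => Subtype.ext <| funext fun s => rfl
    have hdvd : 2 ∣ Nat.card (LinearMap.ker φ) := by
      rw [Module.natCard_eq_pow_finrank (K := ZMod 2), Nat.card_zmod]
      exact dvd_pow_self 2 (fun h => hne (Submodule.finrank_eq_zero.1 h))
    obtain ⟨f, hf, hf0⟩ := hS.exists_fixed_point_of_prime_dvd_card_of_fixed_point _ hdvd h0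
    have hconst : ∀ s : S, (f : S → ZMod 2) s = (f : S → ZMod 2) 1 := fun s => by
      have h := congrFun (congrArg Subtype.val (hf s)) s
      change (f : S → ZMod 2) (s⁻¹ * s) = _ at h
      rw [inv_mul_cancel] at h
      exact h.symm
    have hφf : φ f = 0 := f.2
    simp only [φ, Fintype.linearCombination_apply, hconst, ← Finset.smul_sum] at hφf
    rcases zmod_two ((f : S → ZMod 2) 1) with h1 | h1
    · exact hf0 (Subtype.ext (funext fun s => by rw [hconst s, h1]; rfl))
    · rw [h1, one_smul] at hφf; exact hw hφf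
  have h := LinearMap.finrank_le_finrank_of_injective (LinearMap.ker_eq_bot.1 hker)
  rwa [Module.finrank_fintype_fun_eq_card, ← Nat.card_eq_fintype_card] at h

end Free

end Cfsg.Agent.CoreConsumers.SEModule
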