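import Cfsg.Prelude.Def_Solvable
import Cfsg.Agent.Lib.Local.CoreConsumers.SEModule.Linear
import Cfsg.Agent.Lib.Invol.OneInvol
import Cfsg.Agent.Lib.Grp.Coprime
import Cfsg.Agent.Lib.Grp.Cores

/-!
# A Sylow 2-subgroup with one involution acting on a faithful module

If `t` is the only involution of a Sylow 2-subgroup of order `2 ^ k` and fails to centralize the
odd core, a faithful module over the field with two elements has dimension at least `2 * k`.
-/

set_option autoImplicit false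
set_option linter.style.haveILetI false

namespace Cfsg.Agent.CoreConsumers.SEModule

open Subgroup

/-- In small dimension no odd prime power fits. -/
theorem small_arith {k n p a j : ℕ} (hk : k ≤ 5) (hn : n < 2 * k) (hp : p.Prime) (hp2 : p ≠ 2)
    (ha : 3 ≤ a) (hj : 1 ≤ j) (hja : j < a)
    (hdvd : p ^ a ∣ ∏ i : Fin n, (2 ^ n - 2 ^ (i : ℕ))) (h2 : 2 ^ k ∣ p ^ j - 1) : False := by
  have hn9 : ∏ i : Fin n, (2 ^ n - 2 ^ (i : ℕ)) ∣ 699612310033197642547200 := by
    have h9 : n ≤ 9 := by omega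
    clear hdvd
    interval_cases n <;> norm_num [Fin.prod_univ_succ]
  have h3 : p ^ 3 ∣ 699612310033197642547200 := ((pow_dvd_pow p ha).trans hdvd).trans hn9
  have hp7 : p = 3 ∨ p = 7 := by
    have h : p ∣ 2 ^ 36 * 3 ^ 5 * 5 ^ 2 * 7 ^ 3 * 17 * 31 * 73 * 127 := by
      norm_num
      exact (dvd_pow_self p (by norm_num)).trans h3
    have key : ∀ (q e : ℕ), q.Prime → p ∣ q ^ e → p = q := fun q e hq h =>
      (Nat.prime_dvd_prime_iff_eq hp hq).1 (hp.dvd_of_dvd_pow h)
    have key1 : ∀ q : ℕ, q.Prime → p ∣ q → p = q := fun q hq h =>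
      (Nat.prime_dvd_prime_iff_eq hp hq).1 h
    rcases hp.dvd_mul.1 h with h | h
    rcases hp.dvd_mul.1 h with h | h
    rcases hp.dvd_mul.1 h with h | h
    rcases hp.dvd_mul.1 h with h | h
    rcases hp.dvd_mul.1 h with h | h
    rcases hp.dvd_mul.1 h with h | h
    rcases hp.dvd_mul.1 h with h | h
    · exact absurd (key 2 _ Nat.prime_two h) hp2
    · exact .inl (key 3 _ Nat.prime_three h)
    · obtain rfl := key 5 _ (by norm_num) h; norm_num at h3
    · exact .inr (key 7 _ (by norm_num) h)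
    · obtain rfl := key1 17 (by norm_num) h; norm_num at h3
    · obtain rfl := key1 31 (by norm_num) h; norm_num at h3
    · obtain rfl := key1 73 (by norm_num) h; norm_num at h3
    · obtain rfl := key1 127 (by norm_num) h; norm_num at h3
  have ha5 : a ≤ 5 := by
    by_contra! h
    have := ((pow_dvd_pow p (show 6 ≤ a from h)).trans hdvd).trans hn9
    rcases hp7 with rfl | rfl <;> norm_num at this
  rcases hp7 with rfl | rfl <;> interval_cases k <;> interval_cases a <;> interval_cases j <;>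
    first
      | omega
      | (clear h3 hn9; interval_cases n <;> norm_num [Fin.prod_univ_succ] at hdvd; done)

variable {G : Type*} [Group G] [Finite G]

/-- A non-trivial element of a 2-subgroup with the only involution `t` has `t` as a power. -/
theorem exists_pow_eq {S : Subgroup G} (hS : IsPGroup 2 S) {t : G}
    (huniq : ∀ u ∈ S, orderOf u = 2 → u = t) {s : G} (hs : s ∈ S) (hs1 : s ≠ 1) :
    ∃ i : ℕ, s ^ i = t := by
  obtain ⟨l, hl⟩ := hS.exists_orderOf_eq_pow ⟨s, hs⟩
  rw [Subgroup.orderOf_mk] at hl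
  rcases l with _ | l
  · exact absurd (orderOf_eq_one_iff.1 (by simpa using hl)) hs1
  · exact ⟨orderOf s / 2, huniq _ (pow_mem hs _)
      (orderOf_pow_orderOf_div (orderOf_pos s).ne' (hl ▸ dvd_pow_self 2 l.succ_ne_zero))⟩

/-- A large 2-group with one involution needs an element of at least half its order. -/
theorem exists_large_order {S : Subgroup G} (hS : IsPGroup 2 S) {t : G}
    (huniq : ∀ u ∈ S, orderOf u = 2 → u = t) {k : ℕ} (hk : Nat.card S = 2 ^ k) (h1 : 1 ≤ k) :
    ∃ g : G, ∃ e : ℕ, k ≤ e + 2 ∧ orderOf g = 2 ^ (e + 1) := by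
  haveI : Fact (Nat.Prime 2) := ⟨Nat.prime_two⟩
  have h : ∀ u v : S, orderOf u = 2 → orderOf v = 2 → u = v := fun u v hu hv => Subtype.ext <|
    (huniq u u.2 (by rw [Subgroup.orderOf_coe]; exact hu)).trans
      (huniq v v.2 (by rw [Subgroup.orderOf_coe]; exact hv)).symm
  rcases OneInvol.cyclic_or_quatShape hS h with hc | ⟨a, -, hidx, -⟩
  · obtain ⟨g, hg⟩ := hc.exists_generator
    refine ⟨g, k - 1, by omega, ?_⟩
    rw [Subgroup.orderOf_coe, orderOf_eq_card_of_forall_mem_zpowers hg, hk, Nat.sub_add_cancel h1]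
  · have h2 := (zpowers a).card_mul_index
    rw [hidx, Nat.card_zpowers, hk] at h2
    rcases k with _ | _ | k
    · omega
    · obtain ⟨g, hg⟩ := exists_prime_orderOf_dvd_card' (G := S) 2 (by rw [hk]; simp)
      exact ⟨g, 0, by omega, by rw [Subgroup.orderOf_coe, hg]; rfl⟩
    · refine ⟨a, k, le_rfl, ?_⟩
      rw [Subgroup.orderOf_coe]
      rw [pow_succ 2 (k + 1)] at h2
      exact Nat.eq_of_mul_eq_mul_right two_pos h2

variable {V : Type*} [AddCommGroup V] [Module (ZMod 2) V] [Module.Finite (ZMod 2) V]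

/-- The dimension bound for one involution. -/
theorem rankOne_bound (ρ : Representation (ZMod 2) G V) (hρ : Function.Injective ρ) (S : Sylow 2 G)
    {t : G} (htS : t ∈ (S : Subgroup G)) (ht : orderOf t = 2) (hcen : t ∉ Subgroup.center G)
    (hO : Cfsg.pPrimeCore 2 G ⊔ centralizer ({t} : Set G) = ⊤)
    (huniq : ∀ u ∈ (S : Subgroup G), orderOf u = 2 → u = t) {k : ℕ}
    (hk : Nat.card ↥(S : Subgroup G) = 2 ^ k) : 2 * k ≤ Module.finrank (ZMod 2) V := by
  classical
  haveI : Fact (Nat.Prime 2) := ⟨Nat.prime_two⟩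
  have ht1 : t ≠ 1 := fun h => by rw [h, orderOf_one] at ht; omega
  have htt : t * t = 1 := by rw [← pow_two, ← ht, pow_orderOf_eq_one]
  have hk1 : 1 ≤ k := by
    by_contra! h0
    obtain rfl : k = 0 := by omega
    exact ht1 (Subgroup.mem_bot.1 ((Subgroup.card_eq_one.1 (by simpa using hk)) ▸ htS))
  have hkey : ∀ {R : Subgroup G}, Odd (Nat.card R) → R ≠ ⊥ →
      (∀ s ∈ (S : Subgroup G), ∀ r ∈ R, s * r * s⁻¹ ∈ R) →
      (∀ r ∈ R, t * r = r * t → r = 1) → 2 * k ≤ Module.finrank (ZMod 2) V := by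
    intro R hR hR1 hn hfix
    have h := card_le_finrank_of_free ρ hρ S.isPGroup' hR hR1 hn fun s hs hs1 r hr hsr => by
      obtain ⟨i, rfl⟩ := exists_pow_eq S.isPGroup' huniq hs hs1
      exact hfix r hr ((show Commute s r from hsr).pow_left i).eq
    rw [hk] at h
    refine le_trans ?_ h
    calc 2 * k ≤ 2 * 2 ^ (k - 1) := Nat.mul_le_mul_left 2 (by
          have := @Nat.lt_two_pow_self (k - 1); omega)
      _ = 2 ^ k := by rw [← pow_succ', Nat.sub_add_cancel hk1]
  by_contra! hlt
  -- only small 2-groups are left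
  have hk5 : k ≤ 5 := by
    by_contra! hk6
    obtain ⟨g, e, he, hg⟩ := exists_large_order S.isPGroup' huniq hk hk1
    have h1 := lt_finrank_of_orderOf ρ hρ hg
    have h2 : ∀ i : ℕ, 2 * (i + 6) ≤ 2 ^ (i + 4) := fun i => by
      induction i with
      | zero => norm_num
      | succ i ih => rw [show i + 1 + 4 = (i + 4) + 1 by ring, pow_succ]; omega
    have h3 := h2 (k - 6)
    have h4 : 2 ^ (k - 6 + 4) ≤ 2 ^ e := Nat.pow_le_pow_right two_pos (by omega)
    omega
  set O := Cfsg.pPrimeCore 2 G with hOdef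
  haveI hOn : O.Normal := Grp.pPrimeCore_isNormal
  have hOodd : ¬ 2 ∣ Nat.card O := Grp.pPrimeCore_not_dvd
  have hcop : (Nat.card ↥(S : Subgroup G)).Coprime (Nat.card O) := by
    rw [hk]
    exact Nat.Coprime.pow_left k ((Nat.prime_two.coprime_iff_not_dvd).2 hOodd)
  have hSO : (S : Subgroup G) ≤ normalizer (O : Set G) := by
    exact (le_top : _ ≤ (⊤ : Subgroup G)).trans (Subgroup.normalizer_eq_top_iff.2 hOn).ge
  have hsolv : Group.IsSolvable ↥(S : Subgroup G) := by
    haveI := S.isPGroup'.isNilpotent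
    infer_instance
  -- an invariant Sylow subgroup not centralized by `t`
  obtain ⟨p, hp, P, hP, hPn, hPt⟩ : ∃ p : ℕ, p.Prime ∧ ∃ P : Subgroup G,
      Grp.IsSylowIn p P O ∧ (S : Subgroup G) ≤ normalizer (P : Set G) ∧
        ¬ P ≤ centralizer ({t} : Set G) := by
    by_contra! hall
    refine hcen (mem_center_iff.2 fun g => mem_centralizer_singleton_iff.1 ?_)
    have hle : O ≤ O ⊓ centralizer ({t} : Set G) :=
      Grp.le_of_forall_sylow inf_le_left fun q hq => by
        obtain ⟨X, hX, hXn⟩ := Grp.exists_invariant_sylow (S : Subgroup G) O hSO hcop (.inl hsolv) q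
        exact ⟨X, hX, le_inf hX.1 (hall q hq.out X hX hXn)⟩
    exact (sup_le (hle.trans inf_le_right) le_rfl : O ⊔ _ ≤ _) (hO ▸ mem_top g)
  haveI := Fact.mk hp
  have hPodd : Odd (Nat.card P) := Nat.not_even_iff_odd.1 fun h =>
    hOodd ((even_iff_two_dvd.1 h).trans (card_dvd_of_le hP.1))
  have hp2 : p ≠ 2 := by
    rintro rfl
    refine hPt ?_
    obtain ⟨i, hi⟩ := IsPGroup.iff_card.1 hP.2.1
    rcases i with _ | i
    · have hP1 : P = ⊥ := Subgroup.card_eq_one.1 (by simpa using hi)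
      rw [hP1]; exact bot_le
    · exact absurd (even_iff_two_dvd.2 (hi ▸ dvd_pow_self 2 i.succ_ne_zero))
        (Nat.not_even_iff_odd.2 hPodd)
  have hconj : ∀ s ∈ (S : Subgroup G), ∀ r ∈ P, s * r * s⁻¹ ∈ P := fun s hs r hr =>
    (mem_normalizer_iff.1 (hPn hs) r).1 hr
  have hcentral : ∀ s ∈ (S : Subgroup G), Commute s t := fun s hs => mul_inv_eq_iff_eq_mul.1
    (huniq _ (mul_mem (mul_mem hs htS) (inv_mem hs)) (by
      rw [show s * t * s⁻¹ = MulAut.conj s t from rfl, MulEquiv.orderOf_eq, ht]))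
  have hodd_one : ∀ r ∈ P, r * r = 1 → r = 1 := fun r hr hrr => by
    have h1 : orderOf r ∣ 2 := orderOf_dvd_of_pow_eq_one (by rw [pow_two, hrr])
    rcases (Nat.dvd_prime Nat.prime_two).1 h1 with h | h
    · exact orderOf_eq_one_iff.1 h
    · exfalso
      have h2 : 2 ∣ Nat.card P := h ▸ (Subgroup.orderOf_mk r hr ▸ orderOf_dvd_natCard _)
      exact Nat.not_even_iff_odd.2 hPodd (even_iff_two_dvd.2 h2)
  by_cases hab : ∀ x ∈ P, ∀ y ∈ P, x * y = y * x
  · -- the abelian case
    let R : Subgroup G :=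
      { carrier := {r | r ∈ P ∧ t * r * t⁻¹ = r⁻¹}
        one_mem' := ⟨one_mem P, by group⟩
        mul_mem' := fun {x y} hx hy => ⟨mul_mem hx.1 hy.1, by
          rw [show t * (x * y) * t⁻¹ = (t * x * t⁻¹) * (t * y * t⁻¹) by group, hx.2, hy.2,
            ← _root_.mul_inv_rev, hab y hy.1 x hx.1]⟩
        inv_mem' := fun {x} hx => ⟨inv_mem hx.1, by
          rw [show t * x⁻¹ * t⁻¹ = (t * x * t⁻¹)⁻¹ by group, hx.2]⟩ }
    obtain ⟨r, hr, hrt⟩ := SetLike.not_le_iff_exists.1 hPt
    have hR1 : R ≠ ⊥ := fun h => hrt (mem_centralizer_singleton_iff.2 <| by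
      have hm : r⁻¹ * (t * r * t⁻¹) ∈ R := by
        refine ⟨mul_mem (inv_mem hr) (hconj t htS r hr), ?_⟩
        calc t * (r⁻¹ * (t * r * t⁻¹)) * t⁻¹
            = (t * r⁻¹ * t⁻¹) * ((t * t) * r * (t * t)⁻¹) := by group
          _ = (r⁻¹ * (t * r * t⁻¹))⁻¹ := by rw [htt]; group
      rw [h, mem_bot, inv_mul_eq_one] at hm
      exact (eq_mul_inv_iff_mul_eq.1 hm))
    refine absurd (hkey (R := R) (hPodd.of_dvd_nat (card_dvd_of_le fun x hx => hx.1)) hR1 ?_ ?_)
      (not_le.2 hlt)
    · intro s hs x hx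
      refine ⟨hconj s hs x hx.1, ?_⟩
      calc t * (s * x * s⁻¹) * t⁻¹ = (t * s) * x * (t * s)⁻¹ := by group
        _ = s * (t * x * t⁻¹) * s⁻¹ := by rw [← (hcentral s hs).eq]; group
        _ = (s * x * s⁻¹)⁻¹ := by rw [hx.2]; group
    · intro x hx h
      refine hodd_one x hx.1 ?_
      have := hx.2
      rw [h, mul_inv_cancel_right] at this
      exact mul_eq_one_iff_eq_inv.2 this
  · -- the non-abelian case: counting
    set C := P ⊓ centralizer ({t} : Set G) with hC
    obtain ⟨a, ha⟩ := IsPGroup.iff_card.1 hP.2.1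
    obtain ⟨c, -, hc⟩ := (Nat.dvd_prime_pow hp).1
      (show Nat.card C ∣ p ^ a from ha ▸ card_dvd_of_le inf_le_left)
    have ha3 : 3 ≤ a := by
      by_contra! h3
      apply hab
      intro x hx y hy
      have hcom : ∀ u v : P, u * v = v * u := by
        rcases (by omega : a = 0 ∨ a = 1 ∨ a = 2) with rfl | rfl | rfl
        · haveI : Subsingleton P := (Nat.card_eq_one_iff_unique.1 (by simpa using ha)).1
          exact fun u v => Subsingleton.elim _ _
        · haveI := isCyclic_of_prime_card (α := P) (p := p) (by simpa using ha)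
          exact fun u v => (IsCyclic.commGroup (α := P)).mul_comm u v
        · exact fun u v => (IsPGroup.commGroupOfCardEqPrimeSq ha).mul_comm u v
      exact congrArg Subtype.val (hcom ⟨x, hx⟩ ⟨y, hy⟩)
    have hc0 : c ≠ 0 := by
      rintro rfl
      have hbot : C = ⊥ := Subgroup.card_eq_one.1 (by simpa using hc)
      apply hab
      let φ : P →* P :=
        { toFun := fun x => ⟨t * x * t⁻¹, hconj t htS x x.2⟩
          map_one' := Subtype.ext (by simp)
          map_mul' := fun x y => Subtype.ext (by simp [mul_assoc]) }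
      have h1 : MonoidHom.FixedPointFree φ := fun x hx => Subtype.ext (mem_bot.1 (hbot ▸
        mem_inf.2 ⟨x.2, mem_centralizer_singleton_iff.2
          (mul_inv_eq_iff_eq_mul.1 (congrArg Subtype.val hx :)).symm⟩))
      have h2 : Function.Involutive φ := fun x => Subtype.ext (by
        show t * (t * (x : G) * t⁻¹) * t⁻¹ = x
        rw [show t * (t * (x : G) * t⁻¹) * t⁻¹ = (t * t) * x * (t * t)⁻¹ by group, htt]; group)
      exact fun x hx y hy => congrArg Subtype.val (h1.commute_all_of_involutive h2 ⟨x, hx⟩ ⟨y, hy⟩).eq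
    have hca : c < a := by
      refine (Nat.pow_lt_pow_iff_right hp.one_lt).1 (hc ▸ ha ▸ lt_of_le_of_ne
        (card_le_of_le inf_le_left) fun h => hPt ?_)
      exact (Subgroup.eq_of_le_of_card_ge inf_le_left h.ge).ge.trans inf_le_right
    -- the free action on the rest of `P`
    let X := {x : G // x ∈ P ∧ x ∉ C}
    have hXS : ∀ s ∈ (S : Subgroup G), ∀ x, x ∈ P ∧ x ∉ C → s * x * s⁻¹ ∈ P ∧ s * x * s⁻¹ ∉ C := by
      intro s hs x hx
      refine ⟨hconj s hs x hx.1, fun h => hx.2 ⟨hx.1, mem_centralizer_singleton_iff.2 ?_⟩⟩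
      have h1 : Commute (s * x * s⁻¹) t := mem_centralizer_singleton_iff.1 h.2
      have hs1 : Commute s⁻¹ t := hcentral _ (inv_mem hs)
      have h2 : Commute (s⁻¹ * (s * x * s⁻¹) * s) t :=
        (hs1.mul_left h1).mul_left (hcentral s hs)
      rwa [show s⁻¹ * (s * x * s⁻¹) * s = x by group] at h2
    letI : MulAction ↥(S : Subgroup G) X :=
      { smul := fun s x => ⟨(s : G) * x.1 * (s : G)⁻¹, hXS s s.2 _ x.2⟩
        one_smul := fun x => Subtype.ext (by show (1 : G) * x.1 * 1⁻¹ = x.1; simp)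
        mul_smul := fun s s' x => Subtype.ext (by
          show (s * s' : G) * x.1 * (s * s' : G)⁻¹ = s * ((s' : G) * x.1 * (s' : G)⁻¹) * (s : G)⁻¹
          group) }
    have hdvd : 2 ^ k ∣ Nat.card X := by
      haveI := Fintype.ofFinite (Quotient (MulAction.orbitRel ↥(S : Subgroup G) X))
      rw [Nat.card_congr (MulAction.selfEquivSigmaOrbitsQuotientStabilizer ↥(S : Subgroup G) X),
        Nat.card_sigma]
      refine Finset.dvd_sum fun ω _ => ?_
      have hbot : MulAction.stabilizer ↥(S : Subgroup G) ω.out = ⊥ := by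
        refine (Subgroup.eq_bot_iff_forall _).2 fun s hs => ?_
        by_contra hs1
        obtain ⟨i, hi⟩ := exists_pow_eq S.isPGroup' huniq s.2 (fun h => hs1 (Subtype.ext h))
        refine ω.out.2.2 ⟨ω.out.2.1, mem_centralizer_singleton_iff.2 ?_⟩
        have h1 : (s : G) * ω.out.1 * (s : G)⁻¹ = ω.out.1 := congrArg Subtype.val hs
        rw [← hi]
        exact ((show Commute (s : G) ω.out.1 from mul_inv_eq_iff_eq_mul.1 h1).symm.pow_right i).eq
      rw [← Subgroup.index_eq_card, hbot, Subgroup.index_bot, hk]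
    have hX : Nat.card X = p ^ a - p ^ c := by
      have h1 : Nat.card X = ((P : Set G) \ (C : Set G)).ncard := Nat.card_coe_set_eq _
      rw [h1, Set.ncard_sdiff (s := (C : Set G)) (fun x hx => (mem_inf.1 hx).1), ← ha, ← hc]
      rfl
    obtain ⟨j, rfl⟩ : ∃ j, a = c + j := ⟨a - c, by omega⟩
    rw [hX, pow_add, ← Nat.mul_sub_one] at hdvd
    refine small_arith hk5 hlt hp hp2 ha3 (j := j) (by omega) (by omega) (ha ▸ card_dvd_prod ρ hρ P)
      ((Nat.Coprime.pow k c ((Nat.coprime_primes Nat.prime_two hp).2 hp2.symm)).dvd_of_dvd_mul_left hdvd)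

end Cfsg.Agent.CoreConsumers.SEModule
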