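import Cfsg.Prelude
import Cfsg.Agent.Lib.Local.CoreConsumers.SEModule.RankOne
import Cfsg.Agent.Lib.Invol.StronglyEmbedded
import Cfsg.Agent.Lib.Invol.RegularInversionFamilies
import Cfsg.Agent.Lib.Invol.PSUThreeGen
import Cfsg.Agent.Lib.Recog.SU3Sylow

/-!
# Modules for groups with a strongly embedded subgroup

`s3841_of`: given the structure theorem for groups with a strongly embedded subgroup, the two
bounds for a faithful module over the field with two elements.
-/

set_option autoImplicit false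
set_option linter.style.haveILetI false

namespace Cfsg.Agent.CoreConsumers.SEModule

open Cfsg Subgroup

variable {G : Type*} [Group G] [Finite G]
  {V : Type*} [AddCommGroup V] [Module (ZMod 2) V] [Module.Finite (ZMod 2) V]

/-- The additive action of a group mapped into `G`. -/
def addAct {K : Type*} [Group K] (ρ : Representation (ZMod 2) G V) (f : K →* G) :
    K →* AddMonoid.End V where
  toFun g := (ρ (f g)).toAddMonoidHom
  map_one' := by rw [map_one, map_one]; rfl
  map_mul' g h := by rw [map_mul, map_mul]; rfl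

omit [Finite G] [Module.Finite (ZMod 2) V] in
theorem addAct_apply {K : Type*} [Group K] (ρ : Representation (ZMod 2) G V) (f : K →* G) (g : K)
    (x : V) : addAct ρ f g x = ρ (f g) x := rfl

omit [Finite G] [Module.Finite (ZMod 2) V] in
theorem addAct_faithful {K : Subgroup G} (ρ : Representation (ZMod 2) G V)
    (hρ : Function.Injective ρ) : ∀ g : K, (∀ x, addAct ρ K.subtype g x = x) → g = 1 := fun g hg =>
  Subtype.ext (hρ (by rw [OneMemClass.coe_one, map_one]; exact LinearMap.ext hg))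

/-- Turn the counting bound for the involutions of the lifted group into dimension bounds. -/
theorem bounds_of_count (ρ : Representation (ZMod 2) G V) {K : Subgroup G} (S : Subgroup G)
    (hS : IsPGroup 2 S) (hSK : S ≤ K) (hS1 : S ≠ ⊥) {N c : ℕ}
    (hb : ∀ a : K, orderOf a = 2 → 2 ^ N ≤ Nat.card V ∧
      2 ^ N * Nat.card {x : V // addAct ρ K.subtype a x = x} ^ c ≤ Nat.card V ^ c) :
    N ≤ Module.finrank (ZMod 2) V ∧
      ∀ s ∈ S, s ≠ 1 → N ≤ c * Module.finrank (ZMod 2) ↥(LinearMap.range (ρ s - 1)) := by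
  haveI : Fact (Nat.Prime 2) := ⟨Nat.prime_two⟩
  have hV : Nat.card V = 2 ^ Module.finrank (ZMod 2) V := by
    rw [Module.natCard_eq_pow_finrank (K := ZMod 2), Nat.card_zmod]
  have key : ∀ s ∈ S, s ≠ 1 → ∃ a : K, orderOf a = 2 ∧ ∃ i : ℕ, s ^ i = (a : G) := by
    intro s hs hs1
    obtain ⟨l, hl⟩ := hS.exists_orderOf_eq_pow ⟨s, hs⟩
    rw [Subgroup.orderOf_mk] at hl
    rcases l with _ | l
    · exact absurd (orderOf_eq_one_iff.1 (by simpa using hl)) hs1
    · refine ⟨⟨s ^ (orderOf s / 2), hSK (pow_mem hs _)⟩, ?_, _, rfl⟩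
      rw [← Subgroup.orderOf_coe]
      exact orderOf_pow_orderOf_div (orderOf_pos s).ne' (hl ▸ dvd_pow_self 2 l.succ_ne_zero)
  constructor
  · obtain ⟨⟨s, hs⟩, hs1⟩ := Subgroup.ne_bot_iff_exists_ne_one.1 hS1
    obtain ⟨a, ha, -⟩ := key s hs (fun h => hs1 (Subtype.ext h))
    exact (Nat.pow_le_pow_iff_right one_lt_two).1 (hV ▸ (hb a ha).1)
  · intro s hs hs1
    obtain ⟨a, ha, i, hi⟩ := key s hs hs1
    have h := (hb a ha).2
    have hker : Nat.card {x : V // addAct ρ K.subtype a x = x} =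
        2 ^ Module.finrank (ZMod 2) ↥(LinearMap.ker (ρ (a : G) - 1)) := by
      refine Eq.trans ?_ ((Module.natCard_eq_pow_finrank (K := ZMod 2)).trans (by rw [Nat.card_zmod]))
      exact Nat.card_congr (Equiv.subtypeEquivRight fun x => by
        rw [LinearMap.mem_ker, LinearMap.sub_apply, sub_eq_zero]; rfl)
    rw [hker, hV, ← pow_mul, ← pow_mul, ← pow_add, Nat.pow_le_pow_iff_right one_lt_two] at h
    have hrk := LinearMap.finrank_range_add_finrank_ker (ρ (a : G) - 1)
    have hle : LinearMap.range (ρ (a : G) - 1) ≤ LinearMap.range (ρ s - 1) := by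
      rw [← hi, map_pow, ← mul_geom_sum, Module.End.mul_eq_comp]
      exact LinearMap.range_comp_le_range _ _
    have hle' := Submodule.finrank_mono hle
    rw [← hrk, add_mul] at h
    calc N ≤ Module.finrank (ZMod 2) ↥(LinearMap.range (ρ (a : G) - 1)) * c := by omega
      _ ≤ c * Module.finrank (ZMod 2) ↥(LinearMap.range (ρ s - 1)) := by
        rw [mul_comm]; exact Nat.mul_le_mul_left c hle'

/-- The part of the group over `O^{2'}` of the quotient by the odd core. -/
theorem exists_lift (S : Sylow 2 G) {Q : Type*} [Group Q] [Finite Q]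
    [(pPrimeCore 2 G).Normal]
    (e : ↥(pElementClosure 2 (⊤ : Subgroup (G ⧸ pPrimeCore 2 G))) ≃* Q) :
    ∃ (K : Subgroup G) (π : K →* Q), (S : Subgroup G) ≤ K ∧ Function.Surjective π ∧
      Odd (Nat.card π.ker) ∧ ∃ P : Sylow 2 Q, Nonempty (↥(S : Subgroup G) ≃* ↥(P : Subgroup Q)) := by
  haveI : Fact (Nat.Prime 2) := ⟨Nat.prime_two⟩
  set O := pPrimeCore 2 G with hO
  set L := pElementClosure 2 (⊤ : Subgroup (G ⧸ O)) with hL
  set K := L.comap (QuotientGroup.mk' O) with hK
  let f : K →* L := (QuotientGroup.mk' O).subgroupComap L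
  have hf : Function.Surjective f :=
    MonoidHom.subgroupComap_surjective_of_surjective _ _ (QuotientGroup.mk'_surjective O)
  have hSK : (S : Subgroup G) ≤ K := fun s hs => Subgroup.subset_closure ⟨mem_top _, by
    obtain ⟨l, hl⟩ := S.isPGroup'.exists_orderOf_eq_pow ⟨s, hs⟩
    rw [Subgroup.orderOf_mk] at hl
    obtain ⟨i, -, hi⟩ := (Nat.dvd_prime_pow Nat.prime_two).1
      (hl ▸ orderOf_map_dvd (QuotientGroup.mk' O) s)
    exact ⟨i, hi⟩⟩
  have hkO : ∀ x : K, f x = 1 → (x : G) ∈ O := fun x hx =>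
    (QuotientGroup.eq_one_iff _).1 (congrArg Subtype.val hx :)
  have hkodd : Odd (Nat.card (e.toMonoidHom.comp f).ker) := by
    refine (Nat.coprime_two_right.1 (Grp.pPrimeCore_coprime (p := 2) (G := G))).of_dvd_nat ?_
    refine dvd_trans ?_ (Subgroup.card_dvd_of_injective
      ({ toFun := fun x => ⟨(x.1 : G), hkO _ (e.injective (x.2.trans (map_one e).symm))⟩
         map_one' := rfl
         map_mul' := fun x y => rfl } : (e.toMonoidHom.comp f).ker →* O) fun x y h => ?_)
    · exact dvd_rfl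
    · exact Subtype.ext (Subtype.ext (congrArg Subtype.val h :))
  refine ⟨K, e.toMonoidHom.comp f, hSK, e.surjective.comp hf, hkodd,
    (S.subtype hSK).mapSurjective (f := e.toMonoidHom.comp f) (e.surjective.comp hf), ⟨?_⟩⟩
  let g : ↥(S : Subgroup G) →* Q := (e.toMonoidHom.comp f).comp (Subgroup.inclusion hSK)
  have hg : Function.Injective g := by
    refine (injective_iff_map_eq_one g).2 fun x hx => ?_
    have hxO : (x : G) ∈ O := hkO ⟨x, hSK x.2⟩ (e.injective (hx.trans (map_one e).symm))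
    obtain ⟨l, hl⟩ := S.isPGroup'.exists_orderOf_eq_pow x
    rcases l with _ | l
    · exact orderOf_eq_one_iff.1 (by simpa using hl)
    · exfalso
      have h2 : 2 ∣ orderOf (x : G) := by
        rw [Subgroup.orderOf_coe, hl]; exact dvd_pow_self 2 l.succ_ne_zero
      exact Grp.pPrimeCore_not_dvd (h2.trans (Subgroup.orderOf_dvd_natCard _ hxO))
  refine (MonoidHom.ofInjective hg).trans (MulEquiv.subgroupCongr ?_)
  erw [Sylow.coe_mapSurjective, Sylow.coe_subtype]
  ext y
  constructor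
  · rintro ⟨x, rfl⟩
    exact ⟨Subgroup.inclusion hSK x, x.2, rfl⟩
  · rintro ⟨x, hx, rfl⟩
    exact ⟨⟨x, hx⟩, rfl⟩

/-- The Sylow 2-order from a factorization of the group order. -/
theorem sylow_card_eq {Q : Type*} [Group Q] [Finite Q] (P : Sylow 2 Q) {e N : ℕ} (hN : Odd N)
    (h : Nat.card Q = 2 ^ e * N) : Nat.card ↥(P : Subgroup Q) = 2 ^ e := by
  haveI : Fact (Nat.Prime 2) := ⟨Nat.prime_two⟩
  refine Nat.dvd_antisymm ?_ (P.pow_dvd_card_of_pow_dvd_card (h ▸ dvd_mul_right _ N))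
  obtain ⟨i, hi⟩ := IsPGroup.iff_card.1 P.isPGroup'
  have hd : Nat.card ↥(P : Subgroup Q) ∣ 2 ^ e * N := h ▸ Subgroup.card_subgroup_dvd_card _
  refine Nat.Coprime.dvd_of_dvd_mul_right ?_ hd
  rw [hi]
  exact Nat.Coprime.pow_left i (Nat.coprime_two_left.2 hN)

omit [Finite G] in
theorem mem_centre_part {S : Subgroup G} (x : G) :
    x ∈ S ⊓ centralizer (S : Set G) ↔ ∃ y ∈ center S, (y : G) = x := by
  constructor
  · rintro ⟨hx, hc⟩
    exact ⟨⟨x, hx⟩, mem_center_iff.2 fun y => Subtype.ext (mem_centralizer_iff.1 hc y y.2), rfl⟩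
  · rintro ⟨y, hy, rfl⟩
    exact ⟨y.2, mem_centralizer_iff.2 fun g hg =>
      congrArg Subtype.val (mem_center_iff.1 hy ⟨g, hg⟩)⟩

/-- A finite field of even order has characteristic two. -/
theorem two_of_even {F : Type*} [Field F] [Fintype F] (p : ℕ) [Fact p.Prime] [CharP F p]
    (h : Even (Fintype.card F)) : p = 2 := by
  obtain ⟨n, hp, hn⟩ := FiniteField.card F p
  rw [hn, Nat.even_pow] at h
  exact hp.even_iff.1 h.1

/-- The two bounds, given the structure theorem for groups with a strongly embedded subgroup. -/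
theorem s3841_of (H : Subgroup G) (hH : IsStronglyEmbedded H) (S : Sylow 2 G)
    (ρ : Representation (ZMod 2) G V) (hρ : Function.Injective ρ)
    (hB : (∀ t : G, orderOf t = 2 → pPrimeCore 2 G ⊔ Subgroup.centralizer ({t} : Set G) = ⊤ ∧
        ∀ u ∈ Subgroup.centralizer ({t} : Set G), orderOf u = 2 → u = t) ∨
      (∃ (F : Type) (_ : Field F) (_ : Fintype F), CharP F 2 ∧ 4 ≤ Fintype.card F ∧
        Nonempty (↥(pElementClosure 2 (⊤ : Subgroup (G ⧸ pPrimeCore 2 G))) ≃*
          Matrix.SpecialLinearGroup (Fin 2) F)) ∨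
      (∃ (F : Type) (_ : Field F) (_ : Fintype F) (q : ℕ), Even q ∧ 4 ≤ q ∧
        Fintype.card F = q ^ 2 ∧
        Nonempty (↥(pElementClosure 2 (⊤ : Subgroup (G ⧸ pPrimeCore 2 G))) ≃* PSU 3 F q)) ∨
      Lie.IsoSuzuki ↥(pElementClosure 2 (⊤ : Subgroup (G ⧸ pPrimeCore 2 G)))) :
    (∀ k : ℕ, Nat.card ↥(S : Subgroup G) = 2 ^ k → 2 * k ≤ Module.finrank (ZMod 2) V) ∧
    ∀ n : ℕ, (∀ z ∈ (S : Subgroup G) ⊓ Subgroup.centralizer ((S : Subgroup G) : Set G), z ^ 2 = 1) →
      Nat.card ↥((S : Subgroup G) ⊓ Subgroup.centralizer ((S : Subgroup G) : Set G)) = 2 ^ n →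
      ∀ s ∈ (S : Subgroup G), s ≠ 1 →
        n ≤ Module.finrank (ZMod 2) ↥(LinearMap.range (ρ s - 1)) := by
  classical
  haveI : Fact (Nat.Prime 2) := ⟨Nat.prime_two⟩
  haveI : Finite V := Module.finite_of_finite (ZMod 2)
  haveI : (pPrimeCore 2 G).Normal := Grp.pPrimeCore_isNormal
  have h2G : 2 ∣ Nat.card G :=
    (even_iff_two_dvd.1 hH.2.1).trans (Subgroup.card_subgroup_dvd_card H)
  have hS1 : (S : Subgroup G) ≠ ⊥ := S.ne_bot_of_dvd_card h2G
  have hV2 : ∀ x : V, x + x = 0 := fun x => by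
    conv_lhs => rw [← one_smul (ZMod 2) x, ← add_smul, show (1 + 1 : ZMod 2) = 0 from rfl, zero_smul]
  have hp2 : ∀ x : V, 2 • x = 0 := fun x => by rw [two_nsmul, hV2]
  have hnk : ∀ {n k : ℕ},
      Nat.card ↥((S : Subgroup G) ⊓ centralizer ((S : Subgroup G) : Set G)) = 2 ^ n →
      Nat.card ↥(S : Subgroup G) = 2 ^ k → n ≤ k := fun hn hk =>
    (Nat.pow_le_pow_iff_right one_lt_two).1 (hn ▸ hk ▸ Subgroup.card_le_of_le inf_le_left)
  rcases hB with h | h
  · -- one involution
    obtain ⟨⟨c, hc⟩, hc1⟩ :=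
      Subgroup.ne_bot_iff_exists_ne_one.1 (show center ↥(S : Subgroup G) ≠ ⊥ from fun hb => by
        haveI : Nontrivial ↥(S : Subgroup G) := (Subgroup.nontrivial_iff_ne_bot _).2 hS1
        haveI := S.isPGroup'.center_nontrivial
        exact (Subgroup.nontrivial_iff_ne_bot _).1 inferInstance hb)
    obtain ⟨l, hl⟩ := S.isPGroup'.exists_orderOf_eq_pow c
    have hl0 : l ≠ 0 := fun h0 => hc1 (Subtype.ext (orderOf_eq_one_iff.1 (by simpa [h0] using hl)))
    set z : ↥(S : Subgroup G) := c ^ (orderOf c / 2) with hz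
    have hzc : z ∈ center ↥(S : Subgroup G) := pow_mem hc _
    have hz2 : orderOf (z : G) = 2 := by
      rw [Subgroup.orderOf_coe]
      exact orderOf_pow_orderOf_div (orderOf_pos c).ne' (hl ▸ dvd_pow_self 2 hl0)
    have huniq : ∀ u ∈ (S : Subgroup G), orderOf u = 2 → u = (z : G) := fun u hu hu2 =>
      (h z hz2).2 u (mem_centralizer_singleton_iff.2
        (congrArg Subtype.val (mem_center_iff.1 hzc ⟨u, hu⟩) :)) hu2
    have hzG : (z : G) ∉ center G := by
      intro hzG
      obtain ⟨t, htH, ht⟩ := Invol.exists_orderOf_two_mem hH.2.1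
      have hzt : (z : G) = t := (h t ht).2 z
        (mem_centralizer_singleton_iff.2 (mem_center_iff.1 hzG t).symm) hz2
      refine hH.1 (eq_top_iff.2 fun g _ =>
        (Invol.isStronglyEmbedded_iff hH.1 hH.2.1).1 hH t htH ht g ?_)
      rw [← hzt, mul_assoc, ← mem_center_iff.1 hzG g, inv_mul_cancel_left, hzt]
      exact htH
    refine ⟨fun k hk => rankOne_bound ρ hρ S z.2 hz2 hzG (h z hz2).1 huniq hk,
      fun n hexp hn s hs hs1 => le_trans (b := 1) ?_ ?_⟩
    · have hle : (((S : Subgroup G) ⊓ centralizer ((S : Subgroup G) : Set G) : Subgroup G) : Set G) ⊆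
          {1, (z : G)} := fun x hx => by
        rcases (Nat.dvd_prime Nat.prime_two).1 (orderOf_dvd_of_pow_eq_one (hexp x hx)) with h1 | h1
        · exact .inl (orderOf_eq_one_iff.1 h1)
        · exact .inr (huniq x hx.1 h1)
      have hcard := Set.ncard_le_ncard hle
      rw [← Nat.card_coe_set_eq] at hcard
      have h2 : ({1, (z : G)} : Set G).ncard ≤ 2 :=
        (Set.ncard_insert_le _ _).trans (by rw [Set.ncard_singleton])
      exact (Nat.pow_le_pow_iff_right one_lt_two).1 (by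
        rw [pow_one, ← hn]; exact hcard.trans h2)
    · rw [Nat.one_le_iff_ne_zero]
      intro h0
      rw [Submodule.finrank_eq_zero, LinearMap.range_eq_bot, sub_eq_zero] at h0
      exact hs1 (hρ (h0.trans (map_one ρ).symm))
  rcases h with ⟨F, i1, i2, hch, h4, ⟨e⟩⟩ | ⟨F, i1, i2, q, hq, h4, hF, ⟨e⟩⟩ |
      ⟨F, i1, i2, m, hm, hF, ⟨e⟩⟩
  · -- `SL₂(2ᵐ)`
    obtain ⟨⟨m, hm0⟩, -, hcard⟩ := FiniteField.card F 2
    change Fintype.card F = 2 ^ m at hcard
    have hm : 2 ≤ m := by
      by_contra! hlt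
      obtain rfl : m = 1 := by omega
      omega
    obtain ⟨K, π, hSK, hπ, hker, P, ⟨eS⟩⟩ := exists_lift S e
    have hk : Nat.card ↥(S : Subgroup G) = 2 ^ m := by
      rw [Nat.card_congr eS.toEquiv]
      refine sylow_card_eq P ?_ (by rw [Fus.PSLTwo.natCard_SL_two, hcard])
      have hev : Even (2 ^ m) := Nat.even_pow.2 ⟨even_two, by omega⟩
      exact (Nat.Even.sub_odd (by omega) hev odd_one).mul hev.add_one
    obtain ⟨hd, hr⟩ := bounds_of_count ρ (S : Subgroup G) S.isPGroup' hSK hS1 fun a ha =>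
      Invol.RegInv.lift_bound (addAct ρ K.subtype) hV2 (addAct_faithful ρ hρ) π hπ hker
        (Invol.RegInv.inverts_SL2 hm hcard) ha
    refine ⟨fun k hk' => ?_, fun n _ hn s hs hs1 => ?_⟩
    · obtain rfl := Nat.pow_right_injective le_rfl (hk'.symm.trans hk)
      exact hd
    · have := hr s hs hs1
      have := hnk hn hk
      omega
  · -- `PSU₃(2ʲ)`
    obtain ⟨p, hc⟩ := CharP.exists F
    haveI : Fact p.Prime := ⟨CharP.char_is_prime F p⟩
    obtain rfl : p = 2 := two_of_even p (by rw [hF]; exact hq.pow_of_ne_zero two_ne_zero)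
    obtain ⟨k₀, hk₀⟩ := FiniteField.card F 2
    obtain ⟨j, -, hqj⟩ := (Nat.dvd_prime_pow Nat.prime_two).1
      (show q ∣ 2 ^ (k₀ : ℕ) from hk₀.2 ▸ hF ▸ dvd_pow_self q two_ne_zero)
    have hj : 1 ≤ j := by
      by_contra! h0
      obtain rfl : j = 0 := by omega
      omega
    haveI : Fact (Fintype.card F = q ^ 2) := ⟨hF⟩
    obtain ⟨K, π, hSK, hπ, hker, P, ⟨eS⟩⟩ := exists_lift S e
    obtain ⟨eP⟩ := Recog.SU3Two.sylow_psu hqj hj P
    have hk : Nat.card ↥(S : Subgroup G) = 2 ^ (3 * j) := by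
      rw [Nat.card_congr eS.toEquiv, ← Nat.card_congr eP.toEquiv, Recog.SU3Two.UT.card, hqj,
        ← pow_mul, mul_comm]
    have hcent : ∀ b : PSU 3 F q, orderOf b = 2 → Invol.GenBound.SylowCentral (PSU 3 F q) 2 b := by
      intro b hb
      obtain ⟨T, hT⟩ := (IsPGroup.of_card (p := 2) (n := 1) (G := zpowers b)
        (by rw [Nat.card_zpowers, hb, pow_one])).exists_le_sylow
      obtain ⟨eT⟩ := Recog.SU3Two.sylow_psu hqj hj T
      refine ⟨T, fun y hy => ?_⟩
      set u := eT.symm ⟨b, hT (mem_zpowers b)⟩ with hu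
      have hu2 : u ^ 2 = 1 := by
        rw [hu, ← map_pow, ← map_one eT.symm]
        exact congrArg _ (Subtype.ext (by
          rw [SubgroupClass.coe_pow, OneMemClass.coe_one]
          exact (orderOf_eq_prime_iff.1 hb).1))
      have ha0 : u.a = 0 := by
        have h1 := Recog.SU3Two.UT.sq_b u
        rw [hu2, Recog.SU3Two.UT.one_b] at h1
        rcases mul_eq_zero.1 h1.symm with h2 | h2
        · exact h2
        · exact eq_zero_of_pow_eq_zero h2
      have h3 := mem_center_iff.1 ((Recog.SU3Two.UT.mem_center_iff u).2 ha0) (eT.symm ⟨y, hy⟩)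
      rw [hu, ← map_mul, ← map_mul] at h3
      exact congrArg Subtype.val (eT.symm.injective h3)
    obtain ⟨hd, hr⟩ := bounds_of_count ρ (S : Subgroup G) S.isPGroup' hSK hS1 fun a ha => by
      have hπa : orderOf (π a) = 2 := by
        refine orderOf_eq_prime (by rw [← map_pow, ← ha, pow_orderOf_eq_one, map_one]) fun h1 => ?_
        have h2 : (2 : ℕ) ∣ Nat.card π.ker := ha ▸ Subgroup.orderOf_dvd_natCard _ h1
        exact Nat.not_even_iff_odd.2 hker (even_iff_two_dvd.2 h2)
      exact Invol.GenBound.lift_bound (addAct ρ K.subtype) hp2 (addAct_faithful ρ hρ) π hπ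
        (Invol.PSUThreeGen.gen hF hqj (by omega)) hπa (hcent _ hπa)
    refine ⟨fun k hk' => ?_, fun n _ hn s hs hs1 => ?_⟩
    · obtain rfl := Nat.pow_right_injective le_rfl (hk'.symm.trans hk)
      omega
    · have h1 := hr s hs hs1
      suffices hnj : n ≤ j by omega
      refine (Nat.pow_le_pow_iff_right one_lt_two).1 ?_
      rw [← hn, ← hqj, ← Recog.SU3Two.card_Fx (F := F) (q := q)]
      let g : ↥((S : Subgroup G) ⊓ centralizer ((S : Subgroup G) : Set G)) →
          Recog.SU3Two.UT F q := fun x => eP.symm (eS ⟨x, x.2.1⟩)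
      have hga : ∀ x, (g x).a = 0 := fun x => by
        refine (Recog.SU3Two.UT.mem_center_iff _).1 (mem_center_iff.2 fun v => ?_)
        obtain ⟨w, rfl⟩ := (eS.trans eP.symm).surjective v
        show eP.symm (eS w) * eP.symm (eS ⟨x, x.2.1⟩) = eP.symm (eS ⟨x, x.2.1⟩) * eP.symm (eS w)
        rw [← map_mul, ← map_mul, ← map_mul, ← map_mul]
        exact congrArg _ (congrArg _ (Subtype.ext (mem_centralizer_iff.1 x.2.2 w w.2)))
      refine Nat.card_le_card_of_injective (fun x => (⟨(g x).b, ?_⟩ : Recog.SU3Two.Fx F q)) ?_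
      · have h2 := (g x).eq
        rw [hga x, zero_mul, CharTwo.add_eq_zero] at h2
        exact h2.symm
      · intro x y hxy
        have h2 : g x = g y := Recog.SU3Two.UT.ext ((hga x).trans (hga y).symm)
          (congrArg Subtype.val hxy :)
        exact Subtype.ext (congrArg Subtype.val (eS.injective (eP.symm.injective h2)) :)
  · -- Suzuki
    have hSz : Suz.SzField F m := ⟨hm, hF⟩
    haveI : Finite ↥(Cfsg.Lie.Sz F (2 ^ (m + 1))) := Finite.of_equiv _ (Suz.szEquiv hSz).toEquiv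
    obtain ⟨K, π, hSK, hπ, hker, P, ⟨eS⟩⟩ := exists_lift S e
    have hk : Nat.card ↥(S : Subgroup G) = 2 ^ (2 * (2 * m + 1)) := by
      rw [Nat.card_congr eS.toEquiv]
      refine sylow_card_eq P (N := ((2 ^ (2 * m + 1)) ^ 2 + 1) * (2 ^ (2 * m + 1) - 1)) ?_ ?_
      · have hev : Even (2 ^ (2 * m + 1)) := Nat.even_pow.2 ⟨even_two, by omega⟩
        exact (hev.pow_of_ne_zero two_ne_zero).add_one.mul
          (Nat.Even.sub_odd Nat.one_le_two_pow hev odd_one)
      · rw [← Nat.card_congr (Suz.szEquiv hSz).toEquiv, Suz.card_Sz hSz, ← pow_mul,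
          mul_comm (2 * m + 1) 2, mul_assoc]
    obtain ⟨hd, hr⟩ := bounds_of_count ρ (S : Subgroup G) S.isPGroup' hSK hS1 fun a ha =>
      Invol.RegInv.lift_bound (addAct ρ K.subtype) hV2 (addAct_faithful ρ hρ) π hπ hker
        (Invol.RegInv.inverts_Sz hSz) ha
    refine ⟨fun k hk' => ?_, fun n _ hn s hs hs1 => ?_⟩
    · obtain rfl := Nat.pow_right_injective le_rfl (hk'.symm.trans hk)
      omega
    · have := hr s hs hs1
      have := hnk hn hk
      omega

end Cfsg.Agent.CoreConsumers.SEModule
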